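import Mathlib

set_option autoImplicit false
set_option linter.unusedSectionVars false

/-! Imprimitive maximal subgroups of the alternating group: the stabilizer of a partition
(given as the fibers of a function) into parts of equal size `d ≥ 3`. -/

namespace Cfsg.Agent.Helper89.PMinAlt

open Equiv Equiv.Perm MulAction Set
open scoped Pointwise

variable {α : Type*} [Fintype α] [DecidableEq α] {β : Type*}

/-- The permutation `σ` preserves the partition into fibers of `f`. -/
def PresP (f : α → β) (σ : Perm α) : Prop :=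
  ∀ u v, f (σ u) = f (σ v) ↔ f u = f v

theorem presP_one (f : α → β) : PresP f 1 := fun _ _ => Iff.rfl

theorem PresP.mul {f : α → β} {σ τ : Perm α} (hσ : PresP f σ) (hτ : PresP f τ) :
    PresP f (σ * τ) := by
  intro u v
  rw [Perm.mul_apply, Perm.mul_apply, hσ, hτ]

theorem PresP.inv {f : α → β} {σ : Perm α} (hσ : PresP f σ) : PresP f σ⁻¹ := by
  intro u v
  have := hσ (σ⁻¹ u) (σ⁻¹ v)
  rw [show σ (σ⁻¹ u) = u from σ.apply_symm_apply u, show σ (σ⁻¹ v) = v from σ.apply_symm_apply v] at this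
  exact this.symm

theorem presP_of_fix {f : α → β} {σ : Perm α} (h : ∀ u, f (σ u) = f u) : PresP f σ := by
  intro u v
  rw [h, h]

theorem f_swap {f : α → β} {a b : α} (hab : f a = f b) (v : α) : f (swap a b v) = f v := by
  by_cases h1 : v = a
  · subst h1; rw [swap_apply_left]; exact hab.symm
  · by_cases h2 : v = b
    · subst h2; rw [swap_apply_right]; exact hab
    · rw [swap_apply_of_ne_of_ne h1 h2]

/-- Stabilizer in the alternating group of the partition given by the fibers of `f`. -/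
def HP (f : α → β) : Subgroup (alternatingGroup α) where
  carrier := {g | PresP f (g : Perm α)}
  one_mem' := presP_one f
  mul_mem' := fun {a b} ha hb => by
    show PresP f ((a * b : alternatingGroup α) : Perm α)
    rw [Subgroup.coe_mul]
    exact PresP.mul ha hb
  inv_mem' := fun {a} ha => by
    show PresP f ((a⁻¹ : alternatingGroup α) : Perm α)
    rw [Subgroup.coe_inv]
    exact PresP.inv ha

theorem mem_HP {f : α → β} {g : alternatingGroup α} : g ∈ HP f ↔ PresP f (g : Perm α) := Iff.rfl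

theorem exists_fiber_ne_ne {f : α → β} {u : α} (h3 : 3 ≤ Set.ncard {v | f v = f u}) (a b : α) :
    ∃ v, f v = f u ∧ v ≠ a ∧ v ≠ b := by
  by_contra hcon
  push Not at hcon
  have hsub : {v | f v = f u} ⊆ ({a, b} : Set α) := by
    intro v hv
    by_cases hva : v = a
    · simp [hva]
    · have := hcon v hv hva
      simp [this]
  have h1 := Set.ncard_le_ncard hsub (Set.toFinite _)
  have h2 : Set.ncard ({a, b} : Set α) ≤ 2 := by
    have := Set.ncard_insert_le a ({b} : Set α)
    rw [Set.ncard_singleton] at this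
    exact this
  omega

/-- Moving `y` to `y'` inside a fiber while fixing a given point `w`. -/
theorem exists_HP_inFiber {f : α → β} {d : ℕ} (hd : ∀ u, Set.ncard {v | f v = f u} = d)
    (h3 : 3 ≤ d) {y y' t w : α} (hyy' : y ≠ y') (hf : f y = f y') (ht : f t ≠ f y)
    (hwy : w ≠ y) (hwy' : w ≠ y') :
    ∃ g ∈ HP f, (g : Perm α) w = w ∧ (g : Perm α) y = y' := by
  obtain ⟨u, hu, huw, -⟩ := exists_fiber_ne_ne (f := f) (u := t) (by rw [hd]; exact h3) w w
  obtain ⟨u', hu', hu'w, hu'u⟩ := exists_fiber_ne_ne (f := f) (u := t) (by rw [hd]; exact h3) w u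
  have huy : u ≠ y := fun h => ht (by rw [← hu, h])
  have huy' : u ≠ y' := fun h => ht (by rw [← hu, h, hf])
  have hu'y : u' ≠ y := fun h => ht (by rw [← hu', h])
  have hu'y' : u' ≠ y' := fun h => ht (by rw [← hu', h, hf])
  have hsign : Perm.sign (swap y y' * swap u u') = 1 := by
    rw [Perm.sign_mul, Perm.sign_swap hyy', Perm.sign_swap hu'u.symm]; rfl
  refine ⟨⟨swap y y' * swap u u', Perm.mem_alternatingGroup.mpr hsign⟩, ?_, ?_, ?_⟩
  · rw [mem_HP]
    apply presP_of_fix
    intro v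
    rw [Perm.mul_apply, f_swap hf, f_swap (hu.trans hu'.symm)]
  · show (swap y y' * swap u u') w = w
    rw [Perm.mul_apply, swap_apply_of_ne_of_ne huw.symm hu'w.symm,
      swap_apply_of_ne_of_ne hwy hwy']
  · show (swap y y' * swap u u') y = y'
    rw [Perm.mul_apply, swap_apply_of_ne_of_ne huy.symm hu'y.symm, swap_apply_left]

/-- Moving `y` to `z` in another fiber, fixing all points outside the two fibers. -/
theorem exists_HP_swapFibers {f : α → β} {d : ℕ} (hd : ∀ u, Set.ncard {v | f v = f u} = d)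
    (h3 : 3 ≤ d) {y z : α} (hyz : f y ≠ f z) :
    ∃ g ∈ HP f, (g : Perm α) y = z ∧ ∀ x, f x ≠ f y → f x ≠ f z → (g : Perm α) x = x := by
  classical
  have hcard : Nat.card {v // f v = f y} = Nat.card {v // f v = f z} := by
    have h1 := hd y
    have h2 := hd z
    rw [← _root_.Nat.card_coe_set_eq] at h1 h2
    exact h1.trans h2.symm
  obtain ⟨e₀⟩ := (Finite.card_eq).mp hcard
  obtain ⟨e, hey⟩ : ∃ e : {v // f v = f y} ≃ {v // f v = f z}, e ⟨y, rfl⟩ = ⟨z, rfl⟩ :=
    ⟨e₀.trans (swap (e₀ ⟨y, rfl⟩) ⟨z, rfl⟩), by simp⟩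
  let τ : α → α := fun v =>
    if h : f v = f y then (e ⟨v, h⟩).1 else if h' : f v = f z then (e.symm ⟨v, h'⟩).1 else v
  have hτ1 : ∀ v (h : f v = f y), τ v = (e ⟨v, h⟩).1 := fun v h => by simp only [τ, dif_pos h]
  have hτ2 : ∀ v (h' : f v = f z), τ v = (e.symm ⟨v, h'⟩).1 := fun v h' => by
    have h : ¬ f v = f y := fun h => hyz (h.symm.trans h')
    simp only [τ, dif_neg h, dif_pos h']
  have hτ3 : ∀ v, f v ≠ f y → f v ≠ f z → τ v = v := fun v h h' => by
    simp only [τ, dif_neg h, dif_neg h']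
  have hτf : ∀ v, f (τ v) = swap (f y) (f z) (f v) := by
    intro v
    by_cases h : f v = f y
    · rw [hτ1 v h, h, swap_apply_left]; exact (e ⟨v, h⟩).2
    · by_cases h' : f v = f z
      · rw [hτ2 v h', h', swap_apply_right]; exact (e.symm ⟨v, h'⟩).2
      · rw [hτ3 v h h', swap_apply_of_ne_of_ne h h']
  have hτ : Function.Involutive τ := by
    intro v
    by_cases h : f v = f y
    · have h' : f (τ v) = f z := by rw [hτf, h, swap_apply_left]
      rw [hτ2 (τ v) h']
      have : (⟨τ v, h'⟩ : {v // f v = f z}) = e ⟨v, h⟩ := Subtype.ext (hτ1 v h)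
      rw [this, Equiv.symm_apply_apply]
    · by_cases h' : f v = f z
      · have h'' : f (τ v) = f y := by rw [hτf, h', swap_apply_right]
        rw [hτ1 (τ v) h'']
        have : (⟨τ v, h''⟩ : {v // f v = f y}) = e.symm ⟨v, h'⟩ := Subtype.ext (hτ2 v h')
        rw [this, Equiv.apply_symm_apply]
      · rw [hτ3 v h h', hτ3 v h h']
  obtain ⟨σ, hσ⟩ : ∃ σ : Perm α, ∀ v, σ v = τ v := ⟨hτ.toPerm τ, fun v => rfl⟩
  have hσP : PresP f σ := by
    intro u v
    rw [hσ, hσ, hτf, hτf]
    exact (swap (f y) (f z)).injective.eq_iff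
  have hσy : σ y = z := by
    rw [hσ, hτ1 y rfl, hey]
  have hσx : ∀ x, f x ≠ f y → f x ≠ f z → σ x = x := fun x h h' => by rw [hσ, hτ3 x h h']
  -- sign correction
  obtain ⟨u, hu, huy, -⟩ := exists_fiber_ne_ne (f := f) (u := y) (by rw [hd]; exact h3) y y
  obtain ⟨u', hu', hu'y, hu'u⟩ := exists_fiber_ne_ne (f := f) (u := y) (by rw [hd]; exact h3) y u
  rcases Int.units_eq_one_or (Perm.sign σ) with hs | hs
  · exact ⟨⟨σ, Perm.mem_alternatingGroup.mpr hs⟩, hσP, hσy, hσx⟩
  · have hsign : Perm.sign (σ * swap u u') = 1 := by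
      rw [Perm.sign_mul, hs, Perm.sign_swap hu'u.symm]; rfl
    refine ⟨⟨σ * swap u u', Perm.mem_alternatingGroup.mpr hsign⟩, ?_, ?_, ?_⟩
    · rw [mem_HP]
      exact PresP.mul hσP (presP_of_fix (f_swap (hu.trans hu'.symm)))
    · show (σ * swap u u') y = z
      rw [Perm.mul_apply, swap_apply_of_ne_of_ne huy.symm hu'y.symm, hσy]
    · intro x h h'
      show (σ * swap u u') x = x
      have hxu : x ≠ u := fun hx => h (by rw [hx, hu])
      have hxu' : x ≠ u' := fun hx => h (by rw [hx, hu'])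
      rw [Perm.mul_apply, swap_apply_of_ne_of_ne hxu hxu', hσx x h h']

/-- `HP f` is transitive on points. -/
theorem exists_HP_apply_eq {f : α → β} {d : ℕ} (hd : ∀ u, Set.ncard {v | f v = f u} = d)
    (h3 : 3 ≤ d) (h2 : ∃ a b : α, f a ≠ f b) (u v : α) :
    ∃ g ∈ HP f, (g : Perm α) u = v := by
  by_cases huv : u = v
  · exact ⟨1, Subgroup.one_mem _, by simp [huv]⟩
  by_cases hf : f u = f v
  · obtain ⟨t, ht⟩ : ∃ t, f t ≠ f u := by
      obtain ⟨a, b, hab⟩ := h2
      by_cases ha : f a = f u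
      · exact ⟨b, fun hb => hab (ha.trans hb.symm)⟩
      · exact ⟨a, ha⟩
    obtain ⟨w, -, hwu, hwv⟩ := exists_fiber_ne_ne (f := f) (u := u) (by rw [hd]; exact h3) u v
    obtain ⟨g, hg, -, hgu⟩ := exists_HP_inFiber hd h3 huv hf ht hwu hwv
    exact ⟨g, hg, hgu⟩
  · obtain ⟨g, hg, hgu, -⟩ := exists_HP_swapFibers hd h3 hf
    exact ⟨g, hg, hgu⟩

/-- `HP f` contains a 3-cycle. -/
theorem exists_HP_threeCycle {f : α → β} {d : ℕ} (hd : ∀ u, Set.ncard {v | f v = f u} = d)
    (h3 : 3 ≤ d) (x : α) :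
    ∃ g ∈ HP f, (g : Perm α).IsThreeCycle := by
  obtain ⟨u, hu, hux, -⟩ := exists_fiber_ne_ne (f := f) (u := x) (by rw [hd]; exact h3) x x
  obtain ⟨u', hu', hu'x, hu'u⟩ := exists_fiber_ne_ne (f := f) (u := x) (by rw [hd]; exact h3) x u
  have h3c : (swap x u * swap x u').IsThreeCycle :=
    Equiv.Perm.isThreeCycle_swap_mul_swap_same hux.symm hu'x.symm hu'u.symm
  refine ⟨⟨swap x u * swap x u', h3c.mem_alternatingGroup⟩, ?_, h3c⟩
  rw [mem_HP]
  exact presP_of_fix fun v => by
    rw [Perm.mul_apply, f_swap hu.symm, f_swap hu'.symm]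

/-- `HP f` is a proper subgroup. -/
theorem HP_ne_top {f : α → β} {d : ℕ} (hd : ∀ u, Set.ncard {v | f v = f u} = d)
    (h3 : 3 ≤ d) (h2 : ∃ a b : α, f a ≠ f b) : HP f ≠ ⊤ := by
  obtain ⟨a, b, hab⟩ := h2
  obtain ⟨a', ha', ha'a, -⟩ := exists_fiber_ne_ne (f := f) (u := a) (by rw [hd]; exact h3) a a
  have hba : b ≠ a := fun h => hab (by rw [h])
  have hba' : b ≠ a' := fun h => hab (by rw [h, ha'])
  have h3c : (swap a a' * swap a b).IsThreeCycle :=
    Equiv.Perm.isThreeCycle_swap_mul_swap_same ha'a.symm hba.symm hba'.symm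
  intro htop
  have hmem : (⟨swap a a' * swap a b, h3c.mem_alternatingGroup⟩ : alternatingGroup α) ∈ HP f := by
    rw [htop]; trivial
  rw [mem_HP] at hmem
  -- the 3-cycle sends `a ↦ a'` hmm: compute images of `a'` and `b`
  have e1 : (swap a a' * swap a b) b = a' := by
    rw [Perm.mul_apply, swap_apply_right, swap_apply_left]
  have e2 : (swap a a' * swap a b) a' = a := by
    rw [Perm.mul_apply, swap_apply_of_ne_of_ne ha'a hba'.symm, swap_apply_right]
  have := (hmem b a').mp (by
    show f ((swap a a' * swap a b) b) = f ((swap a a' * swap a b) a')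
    rw [e1, e2, ha'])
  exact hab (by rw [this, ha'])

theorem block_mem_of_mem {K : Subgroup (alternatingGroup α)} {B : Set α} (hB : IsBlock K B)
    {g : alternatingGroup α} (hg : g ∈ K) {a b : α} (ha : a ∈ B) (hga : (g : Perm α) a ∈ B)
    (hb : b ∈ B) : (g : Perm α) b ∈ B := by
  have h1 : (⟨g, hg⟩ : K) • B = B := hB.smul_eq_of_mem (g := (⟨g, hg⟩ : K)) ha hga
  rw [← h1]
  exact ⟨b, hb, rfl⟩

/-- A nontrivial block of an overgroup of `HP f` is a fiber of `f`. -/
theorem block_eq_fiber {f : α → β} {d : ℕ} (hd : ∀ u, Set.ncard {v | f v = f u} = d)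
    (h3 : 3 ≤ d) (h2 : ∃ a b : α, f a ≠ f b) {K : Subgroup (alternatingGroup α)}
    (hK : HP f ≤ K) {B : Set α} (hB : IsBlock K B) {x y : α} (hx : x ∈ B) (hy : y ∈ B)
    (hxy : x ≠ y) (hBu : B ≠ Set.univ) :
    B = {v | f v = f x} := by
  have hother : ∀ y : α, ∃ t, f t ≠ f y := by
    intro y
    obtain ⟨a, b, hab⟩ := h2
    by_cases ha : f a = f y
    · exact ⟨b, fun hb => hab (ha.trans hb.symm)⟩
    · exact ⟨a, ha⟩
  have step1 : ∀ y ∈ B, ∀ w ∈ B, w ≠ y → ∀ y', f y' = f y → y' ∈ B := by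
    intro y hy w hw hwy y' hy'
    by_cases h1 : y' = y
    · rw [h1]; exact hy
    by_cases h2' : y' = w
    · rw [h2']; exact hw
    obtain ⟨t, ht⟩ := hother y
    obtain ⟨g, hg, hgw, hgy⟩ := exists_HP_inFiber hd h3 (Ne.symm h1) hy'.symm ht hwy (Ne.symm h2')
    have := block_mem_of_mem hB (hK hg) hw (by rw [hgw]; exact hw) hy
    rwa [hgy] at this
  have hfx : {v | f v = f x} ⊆ B := fun v hv => step1 x hx y hy hxy.symm v hv
  by_contra hne
  have hex : ∃ y₁ ∈ B, f y₁ ≠ f x := by
    by_contra hcon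
    push Not at hcon
    exact hne (Set.Subset.antisymm (fun v hv => hcon v hv) hfx)
  obtain ⟨y₁, hy₁, hy₁x⟩ := hex
  have hxy₁ : x ≠ y₁ := fun h => hy₁x (by rw [h])
  apply hBu
  rw [Set.eq_univ_iff_forall]
  intro z
  by_cases hzx : f z = f x
  · exact hfx hzx
  by_cases hzy : f z = f y₁
  · exact step1 y₁ hy₁ x hx hxy₁ z hzy
  obtain ⟨g, hg, hgy, hgx⟩ := exists_HP_swapFibers hd h3 (y := y₁) (z := z) (fun h => hzy h.symm)
  have := block_mem_of_mem hB (hK hg) hx
    (by rw [hgx x (fun h => hy₁x h.symm) (fun h => hzx h.symm)]; exact hx) hy₁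
  rwa [hgy] at this

theorem eq_top_of_isPreprimitive_of_isThreeCycle_mem (K : Subgroup (alternatingGroup α))
    [hK : IsPreprimitive K α] {c : alternatingGroup α} (hc : c ∈ K)
    (hc3 : (c : Perm α).IsThreeCycle) : K = ⊤ := by
  rw [eq_top_iff, ← Subgroup.map_subtype_le_map_subtype,
    ← MonoidHom.range_eq_map, Subgroup.range_subtype]
  apply alternatingGroup_le_of_isPreprimitive_of_isThreeCycle_mem _ hc3
  · exact ⟨c, hc, rfl⟩
  · let φ := (alternatingGroup α).subtype.subgroupMap K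
    let f' : α →ₑ[φ] α := {
      toFun := id
      map_smul' _ _ := rfl }
    rwa [← isPreprimitive_congr (f := f') ((alternatingGroup α).subtype.subgroupMap_surjective K)
      Function.bijective_id]

/-- The stabilizer of a partition into at least two parts of equal size `d ≥ 3` is a maximal
subgroup of the alternating group. -/
theorem isCoatom_HP {f : α → β} {d : ℕ} (hd : ∀ u, Set.ncard {v | f v = f u} = d)
    (h3 : 3 ≤ d) (h2 : ∃ a b : α, f a ≠ f b) : IsCoatom (HP f) := by
  refine ⟨HP_ne_top hd h3 h2, fun K hK => ?_⟩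
  have : IsPretransitive K α := ⟨fun u v => by
    obtain ⟨g, hg, hgu⟩ := exists_HP_apply_eq hd h3 h2 u v
    exact ⟨⟨g, hK.le hg⟩, hgu⟩⟩
  obtain ⟨c, hc, hc3⟩ := exists_HP_threeCycle hd h3 h2.choose
  have : IsPreprimitive K α := by
    apply IsPreprimitive.mk
    intro B hB
    rw [IsTrivialBlock, or_iff_not_imp_left]
    intro hB'
    by_contra hBu
    obtain ⟨x, hx, y, hy, hxy⟩ := Set.not_subsingleton_iff.mp hB'
    have hBx := block_eq_fiber hd h3 h2 hK.le hB hx hy hxy hBu
    apply hK.not_ge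
    have key : ∀ k ∈ K, ∀ v', f v' = f x → f ((k : Perm α) v') = f ((k : Perm α) x) := by
      intro k hk v' hv'
      obtain ⟨h', hh', hh'x⟩ := exists_HP_apply_eq hd h3 h2 ((k : Perm α) x) x
      have hmem : ((h' * k : alternatingGroup α) : Perm α) v' ∈ B := by
        apply block_mem_of_mem hB (K.mul_mem (hK.le hh') hk) hx
        · rw [Subgroup.coe_mul, Perm.mul_apply, hh'x]; exact hx
        · rw [hBx]; exact hv'
      rw [hBx, Subgroup.coe_mul, Perm.mul_apply] at hmem
      have hmem' : f ((h' : Perm α) ((k : Perm α) v')) = f ((h' : Perm α) ((k : Perm α) x)) := by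
        rw [hh'x]; exact hmem
      exact (hh' _ _).mp hmem'
    have key2 : ∀ g ∈ K, ∀ u v, f u = f v → f ((g : Perm α) u) = f ((g : Perm α) v) := by
      intro g hg u v huv
      obtain ⟨h, hh, hhx⟩ := exists_HP_apply_eq hd h3 h2 x u
      have hv' : f ((h : Perm α)⁻¹ v) = f x := by
        apply (hh _ _).mp
        rw [hhx, show (h : Perm α) ((h : Perm α)⁻¹ v) = v from (h : Perm α).apply_symm_apply v]
        exact huv.symm
      have := key (g * h) (K.mul_mem hg (hK.le hh)) _ hv'
      rw [Subgroup.coe_mul, Perm.mul_apply, Perm.mul_apply, hhx,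
        show (h : Perm α) ((h : Perm α)⁻¹ v) = v from (h : Perm α).apply_symm_apply v] at this
      exact this.symm
    intro g hg
    rw [mem_HP]
    intro u v
    refine ⟨fun h => ?_, key2 g hg u v⟩
    have := key2 g⁻¹ (K.inv_mem hg) _ _ h
    rw [Subgroup.coe_inv] at this
    rwa [show (g : Perm α)⁻¹ ((g : Perm α) u) = u from (g : Perm α).symm_apply_apply u,
      show (g : Perm α)⁻¹ ((g : Perm α) v) = v from (g : Perm α).symm_apply_apply v] at this
  exact eq_top_of_isPreprimitive_of_isThreeCycle_mem K (hK.le hc) hc3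

/-- A fiber of `f` is a block of `HP f`. -/
theorem isBlock_fiber (f : α → β) (x : α) : IsBlock (HP f) {v | f v = f x} := by
  rw [isBlock_iff_smul_eq_of_mem]
  intro g a ha hga
  have hg : PresP f ((g : alternatingGroup α) : Perm α) := g.2
  have hga' : f (((g : alternatingGroup α) : Perm α) a) = f x := hga
  have ha' : f a = f x := ha
  ext z
  constructor
  · rintro ⟨b, hb, rfl⟩
    show f (((g : alternatingGroup α) : Perm α) b) = f x
    rw [← hga']
    exact (hg b a).mpr ((show f b = f x from hb).trans ha'.symm)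
  · intro hz
    refine ⟨((g : alternatingGroup α) : Perm α)⁻¹ z, ?_, ?_⟩
    · show f (((g : alternatingGroup α) : Perm α)⁻¹ z) = f x
      rw [← ha']
      apply (hg _ _).mp
      rw [show ((g : alternatingGroup α) : Perm α) (((g : alternatingGroup α) : Perm α)⁻¹ z) = z from
        ((g : alternatingGroup α) : Perm α).apply_symm_apply z, hga']
      exact hz
    · show ((g : alternatingGroup α) : Perm α) (((g : alternatingGroup α) : Perm α)⁻¹ z) = z
      exact ((g : alternatingGroup α) : Perm α).apply_symm_apply z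

/-- Partitions with different part sizes have different stabilizers. -/
theorem HP_ne_HP {β' : Type*} {f : α → β} {f' : α → β'} {d d' : ℕ}
    (hd : ∀ u, Set.ncard {v | f v = f u} = d) (hd' : ∀ u, Set.ncard {v | f' v = f' u} = d')
    (h3 : 3 ≤ d) (h3' : 3 ≤ d') (h2 : ∃ a b : α, f a ≠ f b) (h2' : ∃ a b : α, f' a ≠ f' b)
    (hdd' : d ≠ d') : HP f ≠ HP f' := by
  intro heq
  obtain ⟨x, b, hxb⟩ := h2
  obtain ⟨y, hy, hyx, -⟩ := exists_fiber_ne_ne (f := f) (u := x) (by rw [hd]; exact h3) x x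
  have hB : IsBlock (HP f) {v | f v = f x} := isBlock_fiber f x
  have hBu : {v | f v = f x} ≠ Set.univ := by
    intro h
    have : b ∈ {v | f v = f x} := by rw [h]; trivial
    exact hxb this.symm
  have := block_eq_fiber hd' h3' h2' (K := HP f) heq.ge hB (x := x) (y := y) rfl hy hyx.symm hBu
  apply hdd'
  rw [← hd x, ← hd' x, this]

end Cfsg.Agent.Helper89.PMinAlt
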