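import Mathlib

set_option autoImplicit false
set_option linter.unusedSectionVars false

/-! Invariant partitions into parts of size `p ^ j` for a finite `p`-group acting on a set all of
whose orbits have size divisible by `p ^ j`. -/

namespace Cfsg.Agent.Helper89.PMinAlt

open MulAction Set
open scoped Pointwise

variable {Q : Type*} [Group Q] {α : Type*} [MulAction Q α]

theorem exists_block_of_pGroup [Finite Q] [Finite α] {p : ℕ} [hp : Fact p.Prime]
    (hQ : IsPGroup p Q) (j : ℕ) (x : α) (hx : p ^ j ∣ Nat.card (orbit Q x)) :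
    ∃ B : Set α, x ∈ B ∧ IsBlock Q B ∧ B.ncard = p ^ j ∧ B ⊆ orbit Q x := by
  obtain ⟨t, ht⟩ := (IsPGroup.iff_card.mp hQ)
  obtain ⟨s, hs⟩ := (IsPGroup.iff_card.mp (hQ.to_subgroup (stabilizer Q x)))
  have hos : Nat.card (orbit Q x) * p ^ s = p ^ t := by
    have h1 := (stabilizer Q x).card_mul_index
    rw [MulAction.index_stabilizer, hs, ht] at h1
    rw [Nat.card_coe_set_eq, mul_comm]
    exact h1
  have hdvd : p ^ (s + j) ∣ Nat.card Q := by
    rw [ht, ← hos, pow_add, mul_comm]
    exact Nat.mul_dvd_mul_right hx _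
  obtain ⟨T, hT, hle⟩ := Sylow.exists_subgroup_card_pow_prime_le p hdvd (stabilizer Q x) hs
    (Nat.le_add_right s j)
  refine ⟨orbit T x, mem_orbit_self x, IsBlock.of_orbit hle, ?_, ?_⟩
  · have key : stabilizer T x = (stabilizer Q x).subgroupOf T := by
      ext; rfl
    have h1 := (stabilizer T x).card_mul_index
    rw [MulAction.index_stabilizer, hT, key,
      Nat.card_congr (Subgroup.subgroupOfEquivOfLe hle).toEquiv, hs, pow_add] at h1
    exact Nat.eq_of_mul_eq_mul_left (pow_pos hp.out.pos s) h1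
  · rintro _ ⟨g, rfl⟩
    exact ⟨(g : Q), rfl⟩

/-- An invariant partition into parts of size `p ^ j`, given as a set-valued function. -/
theorem exists_partition_of_pGroup [Finite Q] [Finite α] {p : ℕ} [hp : Fact p.Prime]
    (hQ : IsPGroup p Q) (j : ℕ) (h : ∀ x : α, p ^ j ∣ Nat.card (orbit Q x)) :
    ∃ f : α → Set α, (∀ u, u ∈ f u) ∧ (∀ u w, w ∈ f u → f w = f u) ∧
      (∀ u, (f u).ncard = p ^ j) ∧ ∀ (q : Q) (u : α), f (q • u) = q • f u := by
  classical
  choose B hB1 hB2 hB3 hB4 using fun x => exists_block_of_pGroup hQ j x (h x)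
  obtain ⟨rep, hrep1, hrep2⟩ : ∃ rep : α → α, (∀ u, ∃ q : Q, q • rep u = u) ∧
      ∀ u v, v ∈ orbit Q u → rep v = rep u := by
    refine ⟨fun u => Quotient.out (Quotient.mk (orbitRel Q α) u), ?_, ?_⟩
    · intro u
      have h1 : (orbitRel Q α) (Quotient.out (Quotient.mk (orbitRel Q α) u)) u :=
        Quotient.mk_out (s := orbitRel Q α) u
      rw [orbitRel_apply] at h1
      obtain ⟨q, hq⟩ := h1
      refine ⟨q⁻¹, ?_⟩
      show q⁻¹ • (Quotient.out (Quotient.mk (orbitRel Q α) u)) = u
      rw [← hq, inv_smul_smul]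
    · intro u v hv
      show Quotient.out (Quotient.mk (orbitRel Q α) v) = Quotient.out (Quotient.mk (orbitRel Q α) u)
      congr 1
      exact Quotient.sound (show (orbitRel Q α) v u from (orbitRel_apply).mpr hv)
  choose qq hqq using hrep1
  have blk : ∀ (r : α) (q₁ q₂ : Q) (w : α), w ∈ q₁ • B r → w ∈ q₂ • B r → q₁ • B r = q₂ • B r := by
    intro r q₁ q₂ w h1 h2
    by_contra hne
    exact Set.disjoint_left.mp (hB2 r hne) h1 h2
  have hsub : ∀ u, qq u • B (rep u) ⊆ orbit Q u := by
    intro u w hw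
    obtain ⟨b, hb, rfl⟩ := hw
    obtain ⟨q', hq'⟩ := hB4 (rep u) hb
    have hq'' : q' • rep u = b := hq'
    have : qq u • b = (qq u * q' * (qq u)⁻¹) • u := by
      rw [mul_smul, mul_smul, ← hq'']
      congr 2
      rw [eq_inv_smul_iff, hqq]
    show qq u • b ∈ orbit Q u
    rw [this]
    exact ⟨_, rfl⟩
  have hmem : ∀ u, u ∈ qq u • B (rep u) := by
    intro u
    have : qq u • rep u ∈ qq u • B (rep u) := Set.smul_mem_smul_set (hB1 (rep u))
    rwa [hqq] at this
  refine ⟨fun u => qq u • B (rep u), hmem, ?_, ?_, ?_⟩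
  · intro u w hw
    show qq w • B (rep w) = qq u • B (rep u)
    have hr : rep w = rep u := hrep2 u w (hsub u hw)
    have hw' := hmem w
    rw [hr] at hw' ⊢
    exact blk (rep u) _ _ w hw' hw
  · intro u
    show (qq u • B (rep u)).ncard = p ^ j
    rw [Set.ncard_smul_set, hB3]
  · intro q u
    show qq (q • u) • B (rep (q • u)) = q • qq u • B (rep u)
    have hr : rep (q • u) = rep u := hrep2 u (q • u) ⟨q, rfl⟩
    have h1 := hmem (q • u)
    rw [hr] at h1 ⊢
    rw [smul_smul]
    apply blk (rep u) _ _ (q • u) h1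
    rw [← smul_smul]
    exact Set.smul_mem_smul_set (hmem u)

end Cfsg.Agent.Helper89.PMinAlt
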