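import Cfsg.Agent.Lib.Helper89.PMinAlt.Imprim
import Cfsg.Agent.Lib.Helper89.PMinAlt.Part

set_option autoImplicit false
set_option linter.unusedSectionVars false

/-! A `3`-subgroup of an alternating group of degree `n ≥ 5` lying in a unique maximal subgroup
forces `n = 6`, `n = 9` or `n = 3 ^ a + 1`. -/

namespace Cfsg.Agent.Helper89.PMinAlt

open Equiv Equiv.Perm MulAction Set
open scoped Pointwise

variable {α : Type*} [Fintype α] [DecidableEq α]

theorem exists_HP_ge (P : Subgroup (alternatingGroup α)) (hP : IsPGroup 3 P) (j : ℕ)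
    (h : ∀ x : α, 3 ^ j ∣ Nat.card (orbit P x)) :
    ∃ f : α → Set α, (∀ u, Set.ncard {v | f v = f u} = 3 ^ j) ∧ P ≤ HP f := by
  have : Fact (Nat.Prime 3) := ⟨Nat.prime_three⟩
  obtain ⟨f, h1, h2, h3, h4⟩ := exists_partition_of_pGroup (Q := P) (α := α) hP j h
  refine ⟨f, ?_, ?_⟩
  · intro u
    have : {v | f v = f u} = f u := by
      ext v
      constructor
      · intro hv
        have := h1 v
        rw [show f v = f u from hv] at this
        exact this
      · intro hv
        exact h2 u v hv
    rw [this, h3]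
  · intro g hg
    rw [mem_HP]
    intro u v
    have e1 : f ((g : Perm α) u) = (⟨g, hg⟩ : P) • f u := h4 ⟨g, hg⟩ u
    have e2 : f ((g : Perm α) v) = (⟨g, hg⟩ : P) • f v := h4 ⟨g, hg⟩ v
    rw [e1, e2]
    exact smul_left_cancel_iff _

theorem fixed_of_card_orbit_eq_one (P : Subgroup (alternatingGroup α)) (x : α)
    (h : Nat.card (orbit P x) = 1) : ∀ p ∈ P, (p : Perm α) x = x := by
  intro p hp
  have hsub : Subsingleton (orbit P x) := (Finite.card_le_one_iff_subsingleton).mp h.le
  have := hsub.elim ⟨(⟨p, hp⟩ : P) • x, ⟨_, rfl⟩⟩ ⟨x, mem_orbit_self x⟩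
  exact congrArg Subtype.val this

theorem P_le_stabilizer_orbit (P : Subgroup (alternatingGroup α)) (x : α) :
    P ≤ stabilizer (alternatingGroup α) (orbit P x) := by
  intro p hp
  rw [mem_stabilizer_iff]
  exact MulAction.smul_orbit (⟨p, hp⟩ : P) x

theorem fixed_orbit_contra (h5 : 5 ≤ Nat.card α) (P : Subgroup (alternatingGroup α))
    (huniq : ∀ M₁ M₂ : Subgroup (alternatingGroup α), IsCoatom M₁ → P ≤ M₁ → IsCoatom M₂ →
      P ≤ M₂ → M₁ = M₂)
    {x y w : α} (hx : ∀ p ∈ P, (p : Perm α) x = x) (hxy : x ∉ orbit P y) (hwx : w ≠ x)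
    (hwy : w ∉ orbit P y) (hn : Nat.card α ≠ 2 * (orbit P y).ncard) : False := by
  have hM₁ : IsCoatom (stabilizer (alternatingGroup α) ({x} : Set α)) := by
    apply alternatingGroup.isCoatom_stabilizer (Set.singleton_nonempty x)
    · exact ⟨w, hwx⟩
    · rw [Set.ncard_singleton]; omega
  have hPM₁ : P ≤ stabilizer (alternatingGroup α) ({x} : Set α) := by
    intro p hp
    rw [mem_stabilizer_iff, Set.smul_set_singleton]
    congr 1
    exact hx p hp
  have hM₂ : IsCoatom (stabilizer (alternatingGroup α) (orbit P y)) :=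
    alternatingGroup.isCoatom_stabilizer ⟨y, mem_orbit_self y⟩ ⟨x, hxy⟩ hn
  have heq := huniq _ _ hM₁ hPM₁ hM₂ (P_le_stabilizer_orbit P y)
  obtain ⟨g, hg, hgx⟩ := alternatingGroup.exists_mem_stabilizer_smul_eq (α := α) (by omega)
    (t := (orbit P y)ᶜ) x hxy w hwy
  rw [stabilizer_compl, ← heq, mem_stabilizer_iff, Set.smul_set_singleton] at hg
  have : g • x = x := Set.singleton_injective hg
  exact hwx (by rw [← hgx, this])

theorem card_of_unique_coatom (h5 : 5 ≤ Nat.card α) (P : Subgroup (alternatingGroup α))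
    (hP : IsPGroup 3 P)
    (huniq : ∀ M₁ M₂ : Subgroup (alternatingGroup α), IsCoatom M₁ → P ≤ M₁ → IsCoatom M₂ →
      P ≤ M₂ → M₁ = M₂) :
    Nat.card α = 6 ∨ Nat.card α = 9 ∨ ∃ a : ℕ, 2 ≤ a ∧ Nat.card α = 3 ^ a + 1 := by
  have horb : ∀ x : α, ∃ k, Nat.card (orbit P x) = 3 ^ k := fun x => hP.card_orbit x
  by_cases hfix : ∃ x : α, ∀ p ∈ P, (p : Perm α) x = x
  · obtain ⟨x, hx⟩ := hfix
    have hxorb : ∀ y, y ≠ x → x ∉ orbit P y := by
      rintro y hy ⟨p, hp⟩
      apply hy
      have h1 : ((p : alternatingGroup α) : Perm α) y = x := hp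
      have h2 := hx p p.2
      rw [← h1] at h2
      have h3 := ((p : alternatingGroup α) : Perm α).injective h2
      rw [← h1, h3]
    by_cases htr : ∀ y z : α, y ≠ x → z ≠ x → z ∈ orbit P y
    · right; right
      obtain ⟨y, hy⟩ : ∃ y, y ≠ x := by
        have : Nontrivial α := by
          rw [← Finite.one_lt_card_iff_nontrivial]; omega
        exact exists_ne x
      have hO : orbit P y = ({x} : Set α)ᶜ := by
        ext z
        constructor
        · intro hz hzx
          rw [Set.mem_singleton_iff] at hzx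
          rw [hzx] at hz
          exact hxorb y hy hz
        · intro hz
          exact htr y z hy hz
      obtain ⟨k, hk⟩ := horb y
      have hc := Set.ncard_add_ncard_compl ({x} : Set α)
      rw [Set.ncard_singleton, ← hO, ← Nat.card_coe_set_eq, hk] at hc
      refine ⟨k, ?_, by omega⟩
      by_contra hk2
      have : k = 0 ∨ k = 1 := by omega
      rcases this with rfl | rfl <;> omega
    · exfalso
      push Not at htr
      obtain ⟨y, z, hy, hz, hzy⟩ := htr
      by_cases hn : Nat.card α ≠ 2 * (orbit P y).ncard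
      · exact fixed_orbit_contra h5 P huniq hx (hxorb y hy) hz hzy hn
      · push Not at hn
        have hyz : y ∉ orbit P z := fun h => hzy (MulAction.mem_orbit_symm.mp h)
        apply fixed_orbit_contra h5 P huniq hx (hxorb z hz) hy hyz
        intro hn'
        have hdisj : Disjoint (orbit P y) (orbit P z) := by
          rcases MulAction.orbit.eq_or_disjoint (G := P) (X := α) y z with h | h
          · exact absurd (h ▸ mem_orbit_self z) hzy
          · exact h
        have h1 : (orbit P y ∪ orbit P z).ncard = (orbit P y).ncard + (orbit P z).ncard :=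
          Set.ncard_union_eq hdisj
        have h2 : (orbit P y ∪ orbit P z) ⊆ ({x} : Set α)ᶜ := by
          rintro v (hv | hv) hvx
          · rw [Set.mem_singleton_iff] at hvx; rw [hvx] at hv; exact hxorb y hy hv
          · rw [Set.mem_singleton_iff] at hvx; rw [hvx] at hv; exact hxorb z hz hv
        have h3 := Set.ncard_le_ncard h2 (Set.toFinite _)
        have hc := Set.ncard_add_ncard_compl ({x} : Set α)
        rw [Set.ncard_singleton] at hc
        omega
  · push Not at hfix
    have hk0 : ∀ (x : α) (k : ℕ), Nat.card (orbit P x) = 3 ^ k → k ≠ 0 := by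
      rintro x k hk rfl
      obtain ⟨p, hp, hpx⟩ := hfix x
      exact hpx (fixed_of_card_orbit_eq_one P x (by simpa using hk) p hp)
    have h3dvd : ∀ x : α, 3 ^ 1 ∣ Nat.card (orbit P x) := by
      intro x
      obtain ⟨k, hk⟩ := horb x
      rw [hk]
      exact pow_dvd_pow 3 (Nat.one_le_iff_ne_zero.mpr (hk0 x k hk))
    obtain ⟨f₃, hd₃, hP₃⟩ := exists_HP_ge P hP 1 h3dvd
    have htwo : ∀ (j : ℕ) (f : α → Set α), (∀ u, Set.ncard {v | f v = f u} = 3 ^ j) →
        Nat.card α ≠ 3 ^ j → ∃ a b : α, f a ≠ f b := by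
      intro j f hd hne
      by_contra hcon
      push Not at hcon
      obtain ⟨x⟩ : Nonempty α := by
        rw [← Finite.card_pos_iff]; omega
      have : {v | f v = f x} = Set.univ := by
        ext v; simp [hcon v x]
      have h1 := hd x
      rw [this, Set.ncard_univ] at h1
      exact hne h1
    have h2₃ := htwo 1 f₃ hd₃ (by omega)
    have hM₃ : IsCoatom (HP f₃) := isCoatom_HP hd₃ (by norm_num) h2₃
    by_cases h3orb : ∃ x : α, Nat.card (orbit P x) = 3
    · obtain ⟨x, hx⟩ := h3orb
      by_cases h6 : Nat.card α = 6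
      · left; exact h6
      exfalso
      rw [Nat.card_coe_set_eq] at hx
      have hne : (orbit P x)ᶜ.Nonempty := by
        rw [Set.nonempty_compl]
        intro h
        rw [h, Set.ncard_univ] at hx
        omega
      have hM₂ : IsCoatom (stabilizer (alternatingGroup α) (orbit P x)) :=
        alternatingGroup.isCoatom_stabilizer ⟨x, mem_orbit_self x⟩ hne (by rw [hx]; omega)
      have heq := huniq _ _ hM₃ hP₃ hM₂ (P_le_stabilizer_orbit P x)
      obtain ⟨v, hv⟩ := hne
      obtain ⟨g, hg, hgx⟩ := exists_HP_apply_eq hd₃ (by norm_num) h2₃ x v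
      rw [heq, mem_stabilizer_iff] at hg
      apply hv
      rw [← hg, ← hgx]
      exact Set.smul_mem_smul_set (mem_orbit_self x)
    · push Not at h3orb
      have h9dvd : ∀ x : α, 3 ^ 2 ∣ Nat.card (orbit P x) := by
        intro x
        obtain ⟨k, hk⟩ := horb x
        have h0 := hk0 x k hk
        have h1 : k ≠ 1 := by
          rintro rfl
          exact h3orb x (by simpa using hk)
        rw [hk]
        exact pow_dvd_pow 3 (by omega)
      obtain ⟨f₉, hd₉, hP₉⟩ := exists_HP_ge P hP 2 h9dvd
      by_cases h9 : Nat.card α = 9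
      · right; left; exact h9
      exfalso
      have h2₉ := htwo 2 f₉ hd₉ (by omega)
      have hM₉ : IsCoatom (HP f₉) := isCoatom_HP hd₉ (by norm_num) h2₉
      have heq := huniq _ _ hM₃ hP₃ hM₉ hP₉
      exact HP_ne_HP hd₃ hd₉ (by norm_num) (by norm_num) h2₃ h2₉ (by norm_num) heq

end Cfsg.Agent.Helper89.PMinAlt
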